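import Mathlib
import Groth.Agent.SymAlgLib.Poly
import Groth.Agent.SymAlgLib.Funct
import Groth.Agent.OmegaAffLib.StalkCrit
import Groth.Agent.RegImmKindLib.Mor
import Groth.Agent.FittLib.Generated
import Groth.Agent.SeesawLib.Ranks
import Groth.Agent.CycC1Lib.Sec
import Groth.Prelude.Def_C1

/-!
# A subbundle with trivial line quotient as a hypersurface
-/

set_option autoImplicit false
set_option linter.style.haveILetI false
set_option linter.unusedSectionVars false

universe u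

open AlgebraicGeometry CategoryTheory CategoryTheory.Limits Opposite TopologicalSpace
open CycBdlLib (toF preimage_le univMap)
open SymAlgLib (PolyChart)

noncomputable section

namespace CycSubLib

/-- Setting the first variable to zero. -/
def kill (R : Type u) [CommRing R] (n : ℕ) :
    MvPolynomial (ULift.{u} (Fin (n + 1))) R →+* MvPolynomial (ULift.{u} (Fin n)) R :=
  MvPolynomial.eval₂Hom MvPolynomial.C fun k =>
    (Fin.cons 0 (fun m => MvPolynomial.X ⟨m⟩) : Fin (n + 1) → MvPolynomial (ULift.{u} (Fin n)) R) k.down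

theorem kill_X0 (R : Type u) [CommRing R] (n : ℕ) : kill R n (MvPolynomial.X ⟨0⟩) = 0 := by
  simp [kill]

theorem kill_Xsucc (R : Type u) [CommRing R] (n : ℕ) (m : Fin n) :
    kill R n (MvPolynomial.X ⟨m.succ⟩) = MvPolynomial.X ⟨m⟩ := by
  simp [kill]

theorem ker_kill (R : Type u) [CommRing R] (n : ℕ) :
    RingHom.ker (kill R n) = Ideal.span {MvPolynomial.X ⟨0⟩} := by
  refine le_antisymm (fun p hp => ?_) (Ideal.span_le.2 (Set.singleton_subset_iff.2 (kill_X0 R n)))
  let incl : MvPolynomial (ULift.{u} (Fin n)) R →+* MvPolynomial (ULift.{u} (Fin (n + 1))) R :=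
    MvPolynomial.eval₂Hom MvPolynomial.C fun m => MvPolynomial.X ⟨m.down.succ⟩
  have key : ∀ q, q - incl (kill R n q) ∈ Ideal.span {(MvPolynomial.X ⟨0⟩ : MvPolynomial (ULift.{u} (Fin (n + 1))) R)} := by
    intro q
    induction q using MvPolynomial.induction_on with
    | C r => simp [kill, incl]
    | add a b ha hb =>
      rw [map_add, map_add, add_sub_add_comm]
      exact add_mem ha hb
    | mul_X a k ha =>
      obtain ⟨k⟩ := k
      rw [map_mul, map_mul]
      cases k using Fin.cases with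
      | zero =>
        rw [kill_X0, map_zero, mul_zero, sub_zero]
        exact Ideal.mul_mem_left _ _ (Ideal.mem_span_singleton_self _)
      | succ m =>
        rw [kill_Xsucc, show incl (MvPolynomial.X ⟨m⟩) = MvPolynomial.X ⟨m.succ⟩ from MvPolynomial.eval₂Hom_X' _ _ _,
          ← sub_mul]
        exact Ideal.mul_mem_right _ _ ha
  simpa [RingHom.mem_ker.1 hp] using key p

theorem kill_surjective (R : Type u) [CommRing R] (n : ℕ) : Function.Surjective (kill R n) := fun q => by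
  induction q using MvPolynomial.induction_on with
  | C r => exact ⟨MvPolynomial.C r, MvPolynomial.eval₂Hom_C _ _ r⟩
  | add a b ha hb =>
    obtain ⟨a, rfl⟩ := ha
    obtain ⟨b, rfl⟩ := hb
    exact ⟨a + b, map_add _ a b⟩
  | mul_X a k ha =>
    obtain ⟨a, rfl⟩ := ha
    exact ⟨a * MvPolynomial.X ⟨k.down.succ⟩, by rw [map_mul, kill_Xsucc]⟩

/-- Multiplication by the germ of a regular section is injective. -/
theorem injective_germ_mul {V : Scheme.{u}} {W : V.Opens} (hW : IsAffineOpen W) (g : Γ(V, W))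
    (hg : ∀ a, g * a = 0 → a = 0) {y : V} (hy : y ∈ W) :
    ∀ a : V.presheaf.stalk y, V.presheaf.germ W y hy g * a = 0 → a = 0 := by
  letI := V.presheaf.algebra_section_stalk (⟨y, hy⟩ : W)
  haveI : IsLocalization.AtPrime (V.presheaf.stalk y) (hW.primeIdealOf ⟨y, hy⟩).asIdeal :=
    hW.isLocalization_stalk ⟨y, hy⟩
  intro a ha
  obtain ⟨b, t, rfl⟩ := IsLocalization.exists_mk'_eq (hW.primeIdealOf ⟨y, hy⟩).asIdeal.primeCompl a
  rw [show V.presheaf.germ W y hy g = algebraMap Γ(V, W) (V.presheaf.stalk y) g from rfl,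
    IsLocalization.mul_mk'_eq_mk'_of_mul, IsLocalization.mk'_eq_zero_iff] at ha
  obtain ⟨t', ht'⟩ := ha
  rw [IsLocalization.mk'_eq_zero_iff]
  exact ⟨t', hg _ (by rw [← mul_assoc, mul_comm g, mul_assoc]; exact ht')⟩

variable {X : Scheme.{u}}

/-- `z` is a regular equation of `i` on `W`. -/
def Eqn {V DV : Scheme.{u}} (i : DV ⟶ V) (z : Γ(V, ⊤)) (W : V.Opens) : Prop :=
  (∀ a, V.presheaf.map (homOfLE (le_top : W ≤ ⊤)).op z * a = 0 → a = 0) ∧
    RingHom.ker (i.app W).hom = Ideal.span {V.presheaf.map (homOfLE (le_top : W ≤ ⊤)).op z}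

/-- Data of a subbundle with trivial line quotient. -/
structure Datum (X : Scheme.{u}) where
  S : ShortComplex X.Modules
  hS : S.ShortExact
  e : S.X₁ ≅ Coh.structureModule X
  qE : Coh.IsQCoh S.X₂
  qF : Coh.IsQCoh S.X₃
  hF : FlatMod.IsFinLocFree S.X₃
  AE : RelSpec.QCAlg X
  jE : S.X₂ ⟶ AE.toModule
  hAE : RelSpec.IsSymAlg S.X₂ AE jE
  AF : RelSpec.QCAlg X
  jF : S.X₃ ⟶ AF.toModule
  hAF : RelSpec.IsSymAlg S.X₃ AF jF
  φ : AE ⟶ AF
  hφ : jE ≫ RelSpec.QCAlg.Hom.toModuleMap φ = S.g ≫ jF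

namespace Datum

variable (D : Datum X)

/-- The inclusion of the subbundle. -/
abbrev i : D.AF.spec ⟶ D.AE.spec := RelSpec.QCAlg.specMap D.φ

/-- The section defining the quotient line. -/
def f0 (U : X.Opens) : Γ(D.S.X₂, U) := D.S.f.app U (D.e.inv.app U (1 : Γ(X, U)))

theorem f0_res {U V : X.Opens} (h : V ≤ U) : D.S.X₂.presheaf.map (homOfLE h).op (D.f0 U) = D.f0 V := by
  rw [f0, f0, ← QCohLib.app_map, ← QCohLib.app_map]
  exact congrArg (fun t => D.S.f.app V (D.e.inv.app V t)) (map_one (X.presheaf.map (homOfLE h).op).hom)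

theorem g_f0 (U : X.Opens) : D.S.g.app U (D.f0 U) = 0 :=
  congr($(D.S.zero).app U (D.e.inv.app U (1 : Γ(X, U))))

/-- The equation of the subbundle. -/
def z : Γ(D.AE.spec, ⊤) := (univMap D.jE).app ⊤ (D.f0 ⊤)

theorem z_res (U : X.Opens) :
    D.AE.spec.presheaf.map (homOfLE (le_top : D.AE.π ⁻¹ᵁ U ≤ ⊤)).op D.z = (toF D.AE).app (op U) (D.jE.app U (D.f0 U)) := by
  rw [← CycBdlLib.univMap_app, ← D.f0_res (le_top : U ≤ ⊤), QCohLib.app_map]
  rfl

/-- Split charts. -/
theorem exists_charts (x : X) :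
    ∃ (n : ℕ) (cE : PolyChart D.AE (n + 1)) (cF : PolyChart D.AF n), x ∈ cE.U ∧ cE.U = cF.U ∧
      (∀ y ∈ cE.U, y ∈ SeesawLib.RankSet D.S.X₃ n) ∧
      ∃ bE : ULift.{u} (Fin (n + 1)) → Γ(D.S.X₂, cE.U), bE ⟨0⟩ = D.f0 cE.U ∧
        (∀ k, cE.e (MvPolynomial.X k) = D.jE.app cE.U (bE k)) ∧
        ∀ (h : cE.U = cF.U) (p : MvPolynomial (ULift.{u} (Fin (n + 1))) Γ(X, cE.U)),
          (D.φ.hom.app (op cE.U)).hom (cE.e p) =
            (D.AF.presheaf.map (eqToHom h).op).hom (cF.e ((MvPolynomial.map (X.presheaf.map (eqToHom h.symm).op).hom)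
              (kill Γ(X, cE.U) n p))) := by
  haveI := D.qE
  haveI := D.qF
  haveI := D.hS.mono_f
  haveI := D.hS.epi_g
  obtain ⟨U₀, n, hx₀, ⟨ψ⟩⟩ := D.hF x
  obtain ⟨U, hU, hx, hle⟩ := exists_isAffineOpen_mem_and_subset (X := X) (x := x) (U := U₀) hx₀
  obtain ⟨b₀⟩ := FittLib.nonempty_basis_of_iso D.S.X₃ ψ (V := U) hle
  have hrank : ∀ y ∈ U, y ∈ SeesawLib.RankSet D.S.X₃ n := fun y hy => by
    have hy₀ : y ∈ U₀ := hle hy
    have h : (⟨y, hy₀⟩ : U₀.toScheme) ∈ SeesawLib.RankSet ((Scheme.Modules.pullback U₀.ι).obj D.S.X₃) n :=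
      SeesawLib.rankSet_of_iso (ψ.symm ≪≫ (Scheme.Modules.restrictFunctorIsoPullback U₀.ι).app D.S.X₃)
        (SeesawLib.rankSet_freeMod _ _ _)
    exact (SeesawLib.mem_rankSet_pullback_iff D.hF U₀.ι ⟨y, hy₀⟩ n).1 h
  choose l hl using fun m => OmegaAffLib.surjective_app_of_epi D.S.g hU (b₀ m)
  let v : Fin (n + 1) → Γ(D.S.X₂, U) := Fin.cons (D.f0 U) l
  have hg0 : ∀ c : Fin (n + 1) → Γ(X, U), D.S.g.app U (∑ k, c k • v k) = ∑ m, c m.succ • b₀ m := fun c => by
    rw [map_sum, Fin.sum_univ_succ]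
    simp only [v, Fin.cons_zero, Fin.cons_succ, QCohLib.app_smul, D.g_f0, smul_zero, zero_add, hl]
  have hli : LinearIndependent Γ(X, U) v := Fintype.linearIndependent_iff.2 fun c hc => by
    have h1 := (congrArg (D.S.g.app U) hc).trans (map_zero _)
    rw [hg0] at h1
    have h2 := Fintype.linearIndependent_iff.1 b₀.linearIndependent (fun m => c m.succ) h1
    rw [Fin.sum_univ_succ, Finset.sum_eq_zero (fun m _ => by rw [h2 m, zero_smul]), add_zero] at hc
    simp only [v, Fin.cons_zero, f0, ← QCohLib.app_smul] at hc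
    have h3 := QCohLib.app_injective_of_mono D.S.f U (hc.trans (map_zero _).symm)
    have h4 := QCohLib.app_injective_of_mono D.e.inv U (h3.trans (map_zero _).symm)
    have h5 : c 0 = 0 := (mul_one (c 0)).symm.trans h4
    intro k
    cases k using Fin.cases with
    | zero => exact h5
    | succ m => exact h2 m
  have hsp : ⊤ ≤ Submodule.span Γ(X, U) (Set.range v) := fun t _ => by
    let a : Fin n → Γ(X, U) := fun m => b₀.repr (D.S.g.app U t) m
    have h1 : D.S.g.app U (t - ∑ m, a m • l m) = 0 := by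
      rw [map_sub, map_sum]
      simp only [QCohLib.app_smul, hl, a]
      rw [b₀.sum_repr, sub_self]
    obtain ⟨y, hy⟩ := QCohLib.exists_of_app_eq_zero D.hS.exact D.hS.mono_f _ h1
    let r : Γ(X, U) := D.e.hom.app U y
    have hy' : y = r • D.e.inv.app U (1 : Γ(X, U)) := by
      rw [← QCohLib.app_smul]
      exact (congr($(D.e.hom_inv_id).app U y)).symm.trans (congrArg (D.e.inv.app U) (mul_one r).symm)
    rw [hy', QCohLib.app_smul] at hy
    rw [show t = r • v 0 + ∑ m, a m • v m.succ from by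
      simp only [v, Fin.cons_zero, Fin.cons_succ]
      rw [show r • D.f0 U = t - ∑ m, a m • l m from hy, sub_add_cancel]]
    exact add_mem (Submodule.smul_mem _ _ (Submodule.subset_span ⟨0, rfl⟩))
      (sum_mem fun m _ => Submodule.smul_mem _ _ (Submodule.subset_span ⟨m.succ, rfl⟩))
  let bE := (Module.Basis.mk hli hsp).reindex Equiv.ulift.symm
  have hbE : ∀ k, bE k = v k.down := fun k => by simp [bE]
  let bF := b₀.reindex Equiv.ulift.symm
  obtain ⟨eE, hEC, hEX⟩ := SymAlgLib.exists_polyChart D.hAE hU bE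
  obtain ⟨eF, hFC, hFX⟩ := SymAlgLib.exists_polyChart D.hAF hU bF
  refine ⟨n, ⟨U, hU, eE, hEC⟩, ⟨U, hU, eF, hFC⟩, hx, rfl, hrank, bE, by rw [hbE]; simp [v], hEX, fun h p => ?_⟩
  simp only [eqToHom_refl, op_id, CategoryTheory.Functor.map_id, CommRingCat.hom_id, MvPolynomial.map_id,
    RingHom.id_apply]
  induction p using MvPolynomial.induction_on with
  | C a =>
    rw [hEC, show kill Γ(X, U) n (MvPolynomial.C a) = MvPolynomial.C a from MvPolynomial.eval₂Hom_C _ _ a, hFC]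
    exact congr(($(D.φ.comm).app (op U)).hom a)
  | add a b ha hb => simp only [map_add, ha, hb]
  | mul_X a k ha =>
    obtain ⟨k⟩ := k
    simp only [map_mul, ha, hEX]
    congr 1
    rw [show (D.φ.hom.app (op U)).hom (D.jE.app U (bE ⟨k⟩)) = D.jF.app U (D.S.g.app U (bE ⟨k⟩)) from
      congr($(D.hφ).app U (bE ⟨k⟩)), hbE]
    cases k using Fin.cases with
    | zero =>
      rw [kill_X0, map_zero, show v 0 = D.f0 U from rfl, D.g_f0, map_zero]
      rfl
    | succ m =>
      rw [kill_Xsucc, hFX, show v m.succ = l m from rfl, hl]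
      simp [bF]

theorem isClosedImmersion_i : IsClosedImmersion D.i := by
  haveI := D.qE
  haveI := D.qF
  haveI := D.hS.epi_g
  refine SymAlgLib.prop_specMap D.φ fun U hU => IsClosedImmersion.spec_of_surjective _ ?_
  intro y
  suffices hy : y ∈ (D.φ.hom.app (op U)).hom.range from hy
  refine (Subring.closure_le.mpr ?_)
    (show y ∈ SymGenLib.gen D.AF D.jF U by rw [SymGenLib.gen_eq_top D.AF D.jF D.hAF U hU]; trivial)
  rintro _ (⟨r, rfl⟩ | ⟨m, rfl⟩)
  · exact ⟨(D.AE.str.app (op U)).hom r, congr(($(D.φ.comm).app (op U)).hom r)⟩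
  · obtain ⟨m', rfl⟩ := OmegaAffLib.surjective_app_of_epi D.S.g hU m
    exact ⟨D.jE.app U m', congr($(D.hφ).app U m')⟩

/-- The equation on a chart. -/
theorem local_eq {U : X.Opens} (hU : IsAffineOpen U) {n : ℕ}
    (eE : MvPolynomial (ULift.{u} (Fin (n + 1))) Γ(X, U) ≃+* D.AE.presheaf.obj (op U))
    (h0 : eE (MvPolynomial.X ⟨0⟩) = D.jE.app U (D.f0 U))
    (hker : RingHom.ker (D.φ.hom.app (op U)).hom = Ideal.span {eE (MvPolynomial.X ⟨0⟩)}) :
    let g := D.AE.spec.presheaf.map (homOfLE (le_top : D.AE.π ⁻¹ᵁ U ≤ ⊤)).op D.z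
    (∀ a, g * a = 0 → a = 0) ∧ RingHom.ker (D.i.app (D.AE.π ⁻¹ᵁ U)).hom = Ideal.span {g} := by
  intro g
  haveI : IsIso (toF D.AE) := inferInstanceAs (IsIso (inv D.AE.gammaMap))
  haveI : IsIso (toF D.AF) := inferInstanceAs (IsIso (inv D.AF.gammaMap))
  let τ := (toF D.AE).app (op U)
  haveI : IsIso τ := inferInstanceAs (IsIso ((toF D.AE).app (op U)))
  have hbij : Function.Bijective τ := ConcreteCategory.bijective_of_isIso (C := CommRingCat.{u}) τ
  have hg : g = τ (eE (MvPolynomial.X ⟨0⟩)) := (D.z_res U).trans (congrArg τ h0.symm)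
  refine ⟨fun a ha => ?_, ?_⟩
  · obtain ⟨a', rfl⟩ := hbij.2 a
    obtain ⟨p, rfl⟩ := eE.surjective a'
    rw [hg, ← map_mul, ← map_mul] at ha
    have h1 := eE.injective ((hbij.1 (ha.trans (map_zero τ.hom).symm)).trans (map_zero eE).symm)
    rw [show p = 0 from MvPolynomial.isRegular_X.left (h1.trans (mul_zero _).symm), map_zero, map_zero]
  · have hle := preimage_le (RelSpec.QCAlg.specMap_π D.φ) U
    have e : D.i ⁻¹ᵁ (D.AE.π ⁻¹ᵁ U) = D.AF.π ⁻¹ᵁ U := by
      rw [← Scheme.Hom.comp_preimage, RelSpec.QCAlg.specMap_π]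
    haveI : IsIso (D.AF.spec.presheaf.map (homOfLE hle).op) := by
      rw [show homOfLE hle = eqToHom e.symm from Subsingleton.elim _ _]
      infer_instance
    have key : ∀ b, D.i.appLE (D.AE.π ⁻¹ᵁ U) (D.AF.π ⁻¹ᵁ U) hle (τ b) =
        (toF D.AF).app (op U) ((D.φ.hom.app (op U)).hom b) := fun b => by
      rw [← CycBdlLib.toF_algHom_app D.AE D.AF.π _ (RelSpec.QCAlg.specMap_π D.φ) U b, CycBdlLib.toF_specMap]
      rfl
    have hF : Function.Bijective ((toF D.AF).app (op U)) := ConcreteCategory.bijective_of_isIso (C := CommRingCat.{u}) _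
    have hres : Function.Injective (D.AF.spec.presheaf.map (homOfLE hle).op) :=
      (ConcreteCategory.bijective_of_isIso (C := CommRingCat.{u}) _).1
    rw [hg]
    refine le_antisymm (fun a ha => ?_) (Ideal.span_le.2 (Set.singleton_subset_iff.2 ?_))
    · obtain ⟨b, rfl⟩ := hbij.2 a
      have h1 : D.i.appLE (D.AE.π ⁻¹ᵁ U) (D.AF.π ⁻¹ᵁ U) hle (τ b) = 0 := by
        show D.AF.spec.presheaf.map (homOfLE hle).op (D.i.app (D.AE.π ⁻¹ᵁ U) (τ b)) = 0
        rw [show D.i.app (D.AE.π ⁻¹ᵁ U) (τ b) = 0 from ha, map_zero]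
      rw [key] at h1
      have h2 : b ∈ RingHom.ker (D.φ.hom.app (op U)).hom := hF.1 (h1.trans (map_zero _).symm)
      rw [hker, Ideal.mem_span_singleton'] at h2
      obtain ⟨c, rfl⟩ := h2
      rw [map_mul]
      exact Ideal.mul_mem_left _ _ (Ideal.mem_span_singleton_self _)
    · show D.i.app (D.AE.π ⁻¹ᵁ U) (τ _) = 0
      refine hres ((key _).trans ?_)
      rw [show (D.φ.hom.app (op U)).hom (eE (MvPolynomial.X ⟨0⟩)) = 0 from
        hker.ge (Ideal.mem_span_singleton_self _), map_zero, map_zero]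

theorem exists_local (y : D.AE.spec) : ∃ (W : D.AE.spec.Opens) (_ : IsAffineOpen W), y ∈ W ∧
    (∃ n, ∀ w ∈ W, D.AE.π w ∈ SeesawLib.RankSet D.S.X₃ n) ∧ Eqn D.i D.z W := by
  obtain ⟨n, ⟨U, hU, eE, hEC⟩, ⟨U', hU', eF, hFC⟩, hx, hUU', hrank, bE, hb0, hbX, hψ⟩ := D.exists_charts (D.AE.π y)
  change U = U' at hUU'
  subst hUU'
  refine ⟨D.AE.π ⁻¹ᵁ U, ?_, hx, ⟨n, fun w hw => hrank _ hw⟩, ?_⟩
  · rw [D.AE.π_preimage U hU]; exact isAffineOpen_opensRange _
  have h0 : eE (MvPolynomial.X ⟨0⟩) = D.jE.app U (D.f0 U) := (hbX ⟨0⟩).trans (congrArg _ hb0)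
  refine D.local_eq hU eE h0 (le_antisymm (fun b hb => ?_) (Ideal.span_le.2 (Set.singleton_subset_iff.2 ?_)))
  · obtain ⟨p, rfl⟩ := eE.surjective b
    have h1 : kill Γ(X, U) n p = 0 := by
      have h2 := (hψ rfl p).symm.trans hb
      simpa [MvPolynomial.map_id] using h2
    have h3 : p ∈ Ideal.span {(MvPolynomial.X ⟨0⟩ : MvPolynomial (ULift.{u} (Fin (n + 1))) Γ(X, U))} := by
      rw [← ker_kill]; exact h1
    obtain ⟨c, rfl⟩ := Ideal.mem_span_singleton'.1 h3
    rw [map_mul]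
    exact Ideal.mul_mem_left _ _ (Ideal.mem_span_singleton_self _)
  · show (D.φ.hom.app (op U)).hom (eE (MvPolynomial.X ⟨0⟩)) = 0
    have h2 := hψ rfl (MvPolynomial.X ⟨0⟩)
    rw [kill_X0] at h2
    simpa using h2

end Datum

section Local

variable {V DV : Scheme.{u}} (i : DV ⟶ V) (z : Γ(V, ⊤))

theorem germ_sec (y : V) : (Coh.structureModule V).presheaf.germ ⊤ y trivial z =
    V.presheaf.germ ⊤ y trivial z • (Coh.structureModule V).presheaf.germ ⊤ y trivial (1 : Γ(V, ⊤)) := by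
  rw [← AmpleLib.germ_smul (Coh.structureModule V)]
  exact congrArg _ (mul_one z).symm

theorem genAt_one (y : V) :
    AmpleLib.GenAt (Coh.structureModule V) (1 : Γ(V, ⊤)) (show y ∈ (⊤ : V.Opens) from trivial) :=
  (AmpleLib.one_genOn (X := V) ⊤).genAt trivial

/-- A local equation is regular at every stalk. -/
theorem regular_of_local (h : ∀ y : V, ∃ (W : V.Opens) (_ : IsAffineOpen W), y ∈ W ∧ Eqn i z W) (y : V) :
    Function.Injective
      (fun a : V.presheaf.stalk y => a • ((Coh.structureModule V).presheaf.germ ⊤ y trivial) z) := by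
  obtain ⟨W, hW, hy, hreg, -⟩ := h y
  intro a b hab
  simp only [germ_sec z y, smul_smul] at hab
  have h1 : a * V.presheaf.germ ⊤ y trivial z = b * V.presheaf.germ ⊤ y trivial z := (genAt_one y).1 hab
  have hres : V.presheaf.germ ⊤ y trivial z =
      V.presheaf.germ W y hy (V.presheaf.map (homOfLE (le_top : W ≤ ⊤)).op z) :=
    (TopCat.Presheaf.germ_res_apply V.presheaf _ y hy _).symm
  rw [hres] at h1
  exact sub_eq_zero.1 (injective_germ_mul hW _ hreg hy (a - b) (by rw [mul_sub, mul_comm, h1, mul_comm, sub_self]))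

/-- A locally principal closed subscheme is the zero scheme of its equation. -/
theorem isZeroSchemeOf_of_local [IsClosedImmersion i]
    (h : ∀ y : V, ∃ (W : V.Opens) (_ : IsAffineOpen W), y ∈ W ∧ Eqn i z W) :
    Cyc.IsZeroSchemeOf i (Coh.structureModule V) z := by
  have hgen : ∀ y : V, Submodule.span (V.presheaf.stalk y)
      {(Coh.structureModule V).presheaf.germ ⊤ y trivial (1 : Γ(V, ⊤))} = ⊤ := fun y =>
    eq_top_iff.2 fun v _ => Submodule.mem_span_singleton.2 ((genAt_one y).2 v)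
  have hfib : ∀ y : V,
      (Submodule.Quotient.mk (((Coh.structureModule V).presheaf.germ ⊤ y trivial) z) :
        Cyc.secFibre (Coh.structureModule V) y) = 0 ↔ y ∉ V.basicOpen z := fun y => by
    rw [germ_sec z y, Scheme.mem_basicOpen_top, Submodule.Quotient.mk_smul]
    refine (CycC1Lib.fib_smul_eq_zero_iff (genAt_one y) _).trans ?_
    exact (IsLocalRing.residue_eq_zero_iff _).trans ((IsLocalRing.mem_maximalIdeal _).trans Iff.rfl)
  have hloc : ∀ y : V, y ∈ Set.range i ↔ y ∉ V.basicOpen z := fun y => by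
    obtain ⟨W, hW, hy, -, hker⟩ := h y
    have h1 := Scheme.IdealSheafData.coe_support_inter i.ker ⟨W, hW⟩
    rw [Scheme.Hom.ker_apply, hker, Scheme.zeroLocus_span, Scheme.Hom.support_ker,
      i.isClosedEmbedding.isClosed_range.closure_eq] at h1
    have h2 := Set.ext_iff.1 h1 y
    simp only [Set.mem_inter_iff, SetLike.mem_coe, hy, and_true, Scheme.mem_zeroLocus_iff, Set.mem_singleton_iff,
      forall_eq] at h2
    rw [h2, Scheme.basicOpen_res]
    exact not_congr ⟨fun h => h.2, fun h => ⟨hy, h⟩⟩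
  refine ⟨Set.ext fun y => (hloc y).trans (hfib y).symm, fun d => ?_⟩
  obtain ⟨W, hW, hy, -, hker⟩ := h (i d)
  haveI : IsAffineHom i := inferInstance
  refine ⟨_, V.presheaf.germ ⊤ (i d) trivial z, hgen _, germ_sec z _, ?_⟩
  have hs : Function.Surjective (i.app W) := i.app_surjective W hW
  letI := V.presheaf.algebra_section_stalk (⟨i d, hy⟩ : W)
  rw [(RegImmKindLib.ker_stalkMap i hW (hW.preimage i) hs d hy).1, hker, Ideal.map_span, Set.image_singleton]
  exact congrArg (fun t => Ideal.span {t}) (TopCat.Presheaf.germ_res_apply V.presheaf _ (i d) hy _)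

/-- Local equations restrict to opens. -/
theorem eqn_morphismRestrict (U : V.Opens) {W : V.Opens} (hWU : W ≤ U) (h : Eqn i z W) :
    Eqn (i ∣_ U) (U.ι.app ⊤ z) (U.ι ⁻¹ᵁ W) := by
  haveI : IsIso (U.ι.app W) := Scheme.Hom.isIso_app _ _ (by rwa [Scheme.Opens.opensRange_ι])
  haveI : IsIso ((i ⁻¹ᵁ U).ι.app (i ⁻¹ᵁ W)) :=
    Scheme.Hom.isIso_app _ _ (by rw [Scheme.Opens.opensRange_ι]; exact i.preimage_mono hWU)
  let g := V.presheaf.map (homOfLE (le_top : W ≤ ⊤)).op z
  have hbij : Function.Bijective (U.ι.app W) := ConcreteCategory.bijective_of_isIso (C := CommRingCat.{u}) _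
  have hg : (U : Scheme.{u}).presheaf.map (homOfLE (le_top : U.ι ⁻¹ᵁ W ≤ ⊤)).op (U.ι.app ⊤ z) = U.ι.app W g :=
    (congr($(U.ι.naturality (homOfLE (le_top : W ≤ ⊤)).op) z)).symm
  have key : ∀ a, (i ∣_ U).app (U.ι ⁻¹ᵁ W) (U.ι.app W a) = 0 ↔ i.app W a = 0 := fun a => by
    have h1 := congr($(Scheme.Hom.congr_app (morphismRestrict_ι i U) W) a)
    simp only [Scheme.Hom.comp_app, CommRingCat.comp_apply] at h1
    refine Iff.trans (Eq.congr_left h1) ?_
    refine (map_eq_zero_iff _ (ConcreteCategory.bijective_of_isIso (C := CommRingCat.{u}) _).1).trans ?_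
    exact map_eq_zero_iff (((i ⁻¹ᵁ U).ι.app (i ⁻¹ᵁ W))).hom
      (ConcreteCategory.bijective_of_isIso (C := CommRingCat.{u}) ((i ⁻¹ᵁ U).ι.app (i ⁻¹ᵁ W))).1
  refine ⟨fun b hb => ?_, ?_⟩
  · obtain ⟨a, rfl⟩ := hbij.2 b
    rw [hg, ← map_mul, map_eq_zero_iff _ hbij.1] at hb
    rw [h.1 a hb, map_zero]
  · rw [hg]
    refine le_antisymm (fun b hb => ?_) (Ideal.span_le.2 (Set.singleton_subset_iff.2 ?_))
    · obtain ⟨a, rfl⟩ := hbij.2 b
      have h2 : a ∈ RingHom.ker (i.app W).hom := (key a).1 hb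
      rw [h.2, Ideal.mem_span_singleton'] at h2
      obtain ⟨c, rfl⟩ := h2
      rw [map_mul]
      exact Ideal.mul_mem_left _ _ (Ideal.mem_span_singleton_self _)
    · exact (key g).2 (h.2.ge (Ideal.mem_span_singleton_self g))

end Local

end CycSubLib

end
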