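import Mathlib
import Groth.Agent.CycSubLib.Hyper
import Groth.Agent.CycGysLib.Divisor
import Groth.Agent.CycBivLib.Clopen
import Groth.Agent.CycSeqLib.Family
import Groth.Agent.CycC1Lib.Pull
import Groth.Agent.CycAffLib.Field
import Groth.Agent.CycPushLib.Proper
import Groth.Agent.CycCommLib.RatEquiv
import Groth.Agent.CurvLib.Line

/-!
# Pushforward from a subbundle with trivial line quotient
-/

set_option autoImplicit false
set_option linter.style.haveILetI false
set_option linter.unusedSectionVars false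

universe u

open AlgebraicGeometry CategoryTheory CategoryTheory.Limits Opposite TopologicalSpace
open SymAlgLib (PolyChart)

noncomputable section

namespace CycSubLib

/-- The fibre of a chart over any point of its open. -/
theorem exists_fibre' {X : Scheme.{u}} {A : RelSpec.QCAlg X} {r : ℕ} (c : PolyChart A r) {κ : CommRingCat.{u}}
    (χ : CommRingCat.of Γ(X, c.U) ⟶ κ) :
    ∃ j' : Spec (CommRingCat.of (MvPolynomial (ULift.{u} (Fin r)) κ)) ⟶ A.spec,
      IsPullback j' (Spec.map (CommRingCat.ofHom MvPolynomial.C)) A.π (Spec.map χ ≫ c.hU.fromSpec) := by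
  letI : Algebra Γ(X, c.U) κ := χ.hom.toAlgebra
  let P := MvPolynomial (ULift.{u} (Fin r)) Γ(X, c.U)
  letI : Algebra P (MvPolynomial (ULift.{u} (Fin r)) κ) := MvPolynomial.algebraMvPolynomial
  have h := isPullback_SpecMap_of_isPushout _ _ _ _
    (CommRingCat.isPushout_of_isPushout Γ(X, c.U) P κ (MvPolynomial (ULift.{u} (Fin r)) κ))
  exact ⟨Spec.map (CommRingCat.ofHom (algebraMap P (MvPolynomial (ULift.{u} (Fin r)) κ))) ≫ c.ch,
    h.paste_horiz c.isPullback_ch⟩

/-- Affine space fibres of a morphism. -/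
def AffFibres {V W : Scheme.{u}} (p : V ⟶ W) (r : ℕ) : Prop :=
  ∀ η : W, ∃ j : Spec (CommRingCat.of (MvPolynomial (ULift.{u} (Fin r)) (W.residueField η))) ⟶ V,
    IsPullback j (Spec.map (CommRingCat.ofHom MvPolynomial.C)) p (W.fromSpecResidueField η)

theorem hasRelDim_of_affFibres {V W : Scheme.{u}} {p : V ⟶ W} {r : ℕ} (h : AffFibres p r) : Cyc.HasRelDim p r :=
  CycAffLib.hasRelDim_of_fibres p r fun η => by
    obtain ⟨j, hj⟩ := h η
    exact ⟨_, j, _, hj, inferInstance, SymAlgLib.krull_affineFibre _ r⟩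

/-- Charts of constant rank give affine space fibres over an open. -/
theorem affFibres_of_charts {X : Scheme.{u}} {A : RelSpec.QCAlg X} {V : Scheme.{u}} {W : X.Opens} {ιV : V ⟶ A.spec}
    {p : V ⟶ (W : Scheme.{u})} (h : IsPullback ιV p A.π W.ι) {r : ℕ}
    (hc : ∀ x ∈ W, ∃ c : PolyChart A r, x ∈ c.U) : AffFibres p r := by
  intro η
  obtain ⟨c, hηU⟩ := hc (W.ι η) η.2
  let χ : CommRingCat.of Γ(X, c.U) ⟶ (W : Scheme.{u}).residueField η :=
    X.evaluation c.U (W.ι η) hηU ≫ W.ι.residueFieldMap η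
  have hχ : Spec.map χ ≫ c.hU.fromSpec = (W : Scheme.{u}).fromSpecResidueField η ≫ W.ι := by
    rw [← Scheme.Hom.SpecMap_residueFieldMap_fromSpecResidueField, Spec.map_comp, Category.assoc]
    refine congrArg (Spec.map (W.ι.residueFieldMap η) ≫ ·) ?_
    rw [Scheme.fromSpecResidueField, ← c.hU.fromSpecStalk_eq_fromSpecStalk hηU, IsAffineOpen.fromSpecStalk,
      ← Spec.map_comp_assoc]
    rfl
  obtain ⟨j', hj⟩ := exists_fibre' c χ
  rw [hχ] at hj
  let j'' := h.lift j' (Spec.map (CommRingCat.ofHom MvPolynomial.C) ≫ (W : Scheme.{u}).fromSpecResidueField η)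
    (by rw [Category.assoc]; exact hj.w)
  refine ⟨j'', IsPullback.of_right ?_ (h.lift_snd _ _ _) h⟩
  rw [h.lift_fst]
  exact hj

section Cycles

variable {V W DV : Scheme.{u}} {δV : V → ℤ} {δW : W → ℤ}

/-- The divisor of an equation vanishes away from its zero scheme. -/
theorem secDivFun_eq_zero_off (hV : Cyc.IsSetup V δV) {L : V.Modules} (hL : PicF.IsInvertible L)
    {s : L.presheaf.obj (Opposite.op ⊤)} {i : DV ⟶ V} (hD : Cyc.IsZeroSchemeOf i L s) {ξ x : V}
    (hξ : ξ ∉ Set.range i) (hx : x ∉ Set.range i) :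
    Cyc.secDivFun δV L ξ (CycC1Lib.fib L (L.presheaf.germ ⊤ ξ trivial s)) x = 0 := by
  by_cases h : ξ ⤳ x ∧ δV x + 1 = δV ξ
  swap
  · exact CycC1Lib.secDivFun_eq_zero_of_not h _
  obtain ⟨U, e, hxU, he⟩ := TwistLib.exists_genOn hL x
  obtain ⟨a, ha⟩ := (he.genAt hxU).2 (L.presheaf.germ ⊤ x trivial s)
  have hu : IsUnit a := by
    by_contra hu
    refine hx (hD.1.ge ?_)
    show CycC1Lib.fib L (L.presheaf.germ ⊤ x trivial s) = 0
    rw [← ha, CycC1Lib.fib, Submodule.Quotient.mk_smul, CycC1Lib.fib_smul_eq_zero_iff (he.genAt hxU)]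
    exact (IsLocalRing.residue_eq_zero_iff _).2 ((IsLocalRing.mem_maximalIdeal _).2 hu)
  obtain ⟨-, hs⟩ := CycGysLib.specMap_ne_zero_of_coord he h.1 hxU ha fun h0 => hξ (hD.1.ge h0)
  rw [CycC1Lib.secDivFun_eq_divFun hV he hxU _ hs]
  simp only [Cyc.divFun, dif_pos h]
  show Cyc.ordAt x ξ h.1 (Cyc.specMap x ξ h.1 a) = 0
  rw [← one_mul (Cyc.specMap x ξ h.1 a), CycC1Lib.ordAt_unit_mul hV h.1 h.2 hu]
  have h0 := CycC1Lib.divFun_zpow hV (one_ne_zero : (1 : V.residueField ξ) ≠ 0) 0 x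
  rw [zero_mul, zpow_zero] at h0
  simpa only [Cyc.divFun, dif_pos h] using h0

/-- Cycles on a hypersurface bundle with trivial normal equation push to zero. -/
theorem piece (hV : Cyc.IsSetup V δV) (hW : Cyc.IsSetup W δW) (p : V ⟶ W) [Flat p] [LocallyOfFiniteType p]
    (hδ : Cyc.DeltaCompat p δV δW) {n : ℕ} (hp : AffFibres p (n + 1)) (i : DV ⟶ V) [IsClosedImmersion i]
    [Flat (i ≫ p)] [QuasiCompact (i ≫ p)] (hq : AffFibres (i ≫ p) n) (z : Γ(V, ⊤))
    (hz : ∀ y : V, ∃ (U : V.Opens) (_ : IsAffineOpen U), y ∈ U ∧ Eqn i z U)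
    {k : ℤ} (α : AlgebraicCycle DV ℤ) (hα : α ∈ Cyc.Zk DV (fun d => δV (i d)) k) :
    Cyc.RatEquivZero δV k (AlgebraicCycle.map i (fun d => δV (i d)) δV α) := by
  have hL : PicF.IsInvertible (Coh.structureModule V) := CurvLib.isInvertible_structureModule
  have hD := (isZeroSchemeOf_of_local i z hz)
  have hDs := (CycPushLib.setup_of_closedImmersion i hV).1
  have hδD : Cyc.DeltaCompat (i ≫ p) (fun d => δV (i d)) δW := CycGysLib.deltaCompat_comp_closedImmersion p i hδ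
  have hrD := hasRelDim_of_affFibres hq
  have hrp := hasRelDim_of_affFibres hp
  obtain ⟨β, β', hβ, hβ', hαβ⟩ := CycAffLib.exists_pull_of_fibres hDs hW (i ≫ p) hrD hδD (fun η => by
    obtain ⟨j, hj⟩ := hq η
    refine ⟨_, j, _, hj, inferInstance, fun w hw => ?_⟩
    obtain ⟨-, hzero⟩ := CycAffLib.affZero n (W.residueField η) (MvPolynomial (ULift.{u} (Fin n)) (W.residueField η))
      (MvPolynomial.renameEquiv (W.residueField η) Equiv.ulift) (δW η) _ (CycAffLib.fibre_deltaCompat hj hδD)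
    exact hzero _ hw _ fun v hv => CycBivLib.pointCycle_ne 1 fun e => hv (by rw [e]))
    (k - n) α (by rwa [sub_add_cancel])
  rw [sub_add_cancel] at hαβ
  have h1 := CycPushLib.ratEquiv_map hDs hV i (CycBivLib.deltaCompat_restrict i) hαβ
  have h2 : Cyc.RatEquivZero δV k (AlgebraicCycle.map i (fun d => δV (i d)) δV β') := by
    have hgen : ∀ x, CycLimLib.IsGen p x → δV x = δW (p x) + ((n : ℤ) + 1) := fun x hx => by
      simpa using CycLimLib.delta_eq_of_gen p hδ hrp hx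
    let w : (ξ : V) → Cyc.secFibre (Coh.structureModule V) ξ := fun ξ =>
      CycC1Lib.fib (Coh.structureModule V) ((Coh.structureModule V).presheaf.germ ⊤ ξ trivial (1 : Γ(V, ⊤)))
    have hw : ∀ ξ, w ξ ≠ 0 := fun ξ => CycC1Lib.fib_one_ne_zero ξ
    refine CycC1Lib.c1Cap_structureModule hV (CycC1Lib.pullCyc p hV hgen β)
      (by
        have := CycC1Lib.pullCyc_mem_Zk p hV hgen hβ
        rwa [show k - n + ((n : ℤ) + 1) = k + 1 by ring] at this)
      (Cyc.gysinChoice (Coh.structureModule V) z w) (CycGysLib.gysinChoice_ne_zero z hw) _ (funext fun x => ?_)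
    by_cases hx : x ∈ Set.range i
    · obtain ⟨d, rfl⟩ := hx
      rw [CycSeqLib.map_closed_apply i β' d, hβ']
      exact (CycGysLib.gysin_pullFun_eq hV hW p hrp hδ hL z (regular_of_local i z hz) i hD hrD β w d).symm
    · rw [CycSeqLib.map_closed_apply_zero i β' hx]
      refine (finsum_eq_zero_of_forall_eq_zero fun ξ => ?_).symm
      by_contra hξ
      have hc : δV ξ = δW (p ξ) + ((n : ℤ) + 1) := by
        have h := left_ne_zero_of_mul hξ
        change Cyc.pullFun p δV δW ((n : ℤ) + 1) ⇑β ξ ≠ 0 at h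
        simp only [Cyc.pullFun] at h
        split_ifs at h with hc
        · exact hc
        · exact absurd rfl h
      have hout : ξ ∉ Set.range i := by
        rintro ⟨d, rfl⟩
        have h3 := CycLimLib.delta_le (i ≫ p) hδD hrD d
        change δV (i d) ≤ δW (p (i d)) + n at h3
        omega
      refine right_ne_zero_of_mul hξ ?_
      rw [CycGysLib.gysinChoice_of_not_mem hD w hout]
      exact secDivFun_eq_zero_off hV hL hD hout hx
  exact CycCommLib.ratEquivZero_add hV h1 h2 fun x => (sub_add_cancel _ _).symm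

end Cycles

namespace Datum

variable {X : Scheme.{u}} (D : Datum X)

/-- The pushforward from the subbundle is rationally zero. -/
theorem map_ratEquivZero [QuasiCompact D.i] {δ : X → ℤ} (hX : Cyc.IsSetup X δ) {δE : D.AE.spec → ℤ}
    (hEs : Cyc.IsSetup D.AE.spec δE) (hδE : Cyc.DeltaCompat D.AE.π δE δ) {δF : D.AF.spec → ℤ}
    (hδF : Cyc.DeltaCompat D.AF.π δF δ) {k : ℤ} (α : AlgebraicCycle D.AF.spec ℤ)
    (hα : α ∈ Cyc.Zk D.AF.spec δF k) : Cyc.RatEquivZero δE k (AlgebraicCycle.map D.i δF δE α) := by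
  haveI := D.isClosedImmersion_i
  have hw : D.i ≫ D.AE.π = D.AF.π := RelSpec.QCAlg.specMap_π D.φ
  obtain rfl : δF = fun d => δE (D.i d) :=
    CycBivLib.deltaCompat_immersion_eq D.i (CycBivLib.deltaCompat_cancel D.i D.AE.π hw hδE hδF)
  have hchE : ∀ x : X, ∃ (r : ℕ) (c : PolyChart D.AE r), x ∈ c.U := fun x => by
    obtain ⟨n, cE, -, hx, -⟩ := D.exists_charts x
    exact ⟨_, cE, hx⟩
  have hchF : ∀ x : X, ∃ (r : ℕ) (c : PolyChart D.AF r), x ∈ c.U := fun x => by
    obtain ⟨n, cE, cF, hx, he, -⟩ := D.exists_charts x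
    exact ⟨_, cF, he ▸ hx⟩
  haveI : Flat D.AE.π := SymAlgLib.flat_of_charts hchE
  haveI : LocallyOfFiniteType D.AE.π := SymAlgLib.lft_of_charts hchE
  haveI : Flat D.AF.π := SymAlgLib.flat_of_charts hchF
  let Wr : ULift.{u} ℕ → X.Opens := fun n =>
    ⟨SeesawLib.RankSet D.S.X₃ n.down, SeesawLib.isOpen_rankSet _ _⟩
  have hrk : ∀ x : X, ∃ n, x ∈ Wr ⟨n⟩ := fun x => by
    obtain ⟨n, cE, cF, hx, -, hr, -⟩ := D.exists_charts x
    exact ⟨n, hr x hx⟩
  let Vn : ULift.{u} ℕ → D.AE.spec.Opens := fun n => D.AE.π ⁻¹ᵁ Wr n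
  have hcl : ∀ n, IsClosed (Vn n : Set D.AE.spec) := fun n => by
    refine ⟨?_⟩
    rw [isOpen_iff_forall_mem_open]
    intro y hy
    obtain ⟨m, hm⟩ := hrk (D.AE.π y)
    exact ⟨_, fun y' hy' hy'' => hy (by
      rw [show n = ⟨m⟩ from ULift.ext _ _ (SeesawLib.rankSet_unique hy'' hy')]
      exact hm), (Vn ⟨m⟩).isOpen, hm⟩
  have H : CycBivLib.Pieces D.AE.spec (fun n => (Vn n).ι) :=
    { isOpen := fun n => inferInstance
      isClosed := fun n => IsClosedImmersion.of_isPreimmersion _ (by rw [Scheme.Opens.range_ι]; exact hcl n)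
      eq_of_eq := fun {a b} y y' h => ULift.ext _ _ (SeesawLib.rankSet_unique
        (show D.AE.π ((Vn a).ι y) ∈ SeesawLib.RankSet D.S.X₃ a.down from y.2)
        (show D.AE.π ((Vn a).ι y) ∈ SeesawLib.RankSet D.S.X₃ b.down by rw [h]; exact y'.2))
      cover := fun y => by
        obtain ⟨m, hm⟩ := hrk (D.AE.π y)
        exact ⟨⟨m⟩, ⟨y, hm⟩, rfl⟩ }
  refine CycBivLib.ratEquivZero_of_pieces hEs H _ fun n => ?_
  let V := Vn n
  let DV := D.i ⁻¹ᵁ V
  let iV : (DV : Scheme.{u}) ⟶ V := D.i ∣_ V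
  let p : (V : Scheme.{u}) ⟶ Wr n := D.AE.π ∣_ Wr n
  let δV : V → ℤ := fun a => δE (V.ι a)
  let δW : Wr n → ℤ := fun a => δ ((Wr n).ι a)
  haveI := H.isClosed n
  haveI : IsClosedImmersion DV.ι := IsClosedImmersion.of_isPreimmersion _ (by
    rw [Scheme.Opens.range_ι]; exact (hcl n).preimage D.i.continuous)
  have hV : Cyc.IsSetup (V : Scheme.{u}) δV :=
    CycBivLib.isSetup_of_lft V.ι hEs (CycBivLib.deltaCompat_restrict V.ι)
  have hW : Cyc.IsSetup (Wr n : Scheme.{u}) δW :=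
    CycBivLib.isSetup_of_lft (Wr n).ι hX (CycBivLib.deltaCompat_restrict (Wr n).ι)
  have hpE : IsPullback V.ι p D.AE.π (Wr n).ι := (isPullback_morphismRestrict D.AE.π (Wr n)).flip
  have hpF : IsPullback DV.ι (iV ≫ p) D.AF.π (Wr n).ι := by
    have h := ((isPullback_morphismRestrict D.i V).flip.paste_vert hpE)
    rwa [hw] at h
  haveI : Flat p := MorphismProperty.of_isPullback hpE (inferInstance : Flat D.AE.π)
  haveI : LocallyOfFiniteType p := MorphismProperty.of_isPullback hpE (inferInstance : LocallyOfFiniteType D.AE.π)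
  haveI : Flat (iV ≫ p) := MorphismProperty.of_isPullback hpF (inferInstance : Flat D.AF.π)
  haveI : IsAffineHom D.AF.π := ⟨fun U hU => by
    rw [D.AF.π_preimage U hU]
    exact isAffineOpen_opensRange _⟩
  haveI : QuasiCompact (iV ≫ p) := MorphismProperty.of_isPullback hpF (inferInstance : QuasiCompact D.AF.π)
  have hδp : Cyc.DeltaCompat p δV δW := by
    refine CycBivLib.deltaCompat_cancel p (Wr n).ι hpE.w.symm (CycBivLib.deltaCompat_restrict (Wr n).ι) ?_
    intro a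
    obtain ⟨m, hm, hd⟩ := hδE (V.ι a)
    refine ⟨m, ?_, hd⟩
    show Dual3.resTrdeg (V.ι ≫ D.AE.π) a = m
    rw [AlgSpLib.resTrdeg_comp, CycPushLib.trdeg_preimmersion_left V.ι, add_zero]
    exact hm
  have hrE : ∀ x ∈ Wr n, ∃ c : PolyChart D.AE (n.down + 1), x ∈ c.U := fun x hx' => by
    obtain ⟨m, cE, -, hx, -, hr, -⟩ := D.exists_charts x
    obtain rfl := SeesawLib.rankSet_unique (hr x hx) hx'
    exact ⟨cE, hx⟩
  have hrF : ∀ x ∈ Wr n, ∃ c : PolyChart D.AF n.down, x ∈ c.U := fun x hx' => by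
    obtain ⟨m, cE, cF, hx, he, hr, -⟩ := D.exists_charts x
    obtain rfl := SeesawLib.rankSet_unique (hr x hx) hx'
    exact ⟨cF, he ▸ hx⟩
  have hz : ∀ y : (V : Scheme.{u}), ∃ (U : (V : Scheme.{u}).Opens) (_ : IsAffineOpen U), y ∈ U ∧
      Eqn iV (V.ι.app ⊤ D.z) U := fun y => by
    obtain ⟨U, hU, hy, ⟨m, hm⟩, hEq⟩ := D.exists_local (V.ι y)
    have hUV : U ≤ V := fun w hw' => by
      obtain rfl : n.down = m := SeesawLib.rankSet_unique (show D.AE.π (V.ι y) ∈ _ from y.2) (hm _ hy)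
      exact hm w hw'
    exact ⟨V.ι ⁻¹ᵁ U, hU.preimage_of_isOpenImmersion _ (by rwa [Scheme.Opens.opensRange_ι]), hy,
      eqn_morphismRestrict D.i D.z V hUV hEq⟩
  let αV := CycGysLib.restrictCyc DV.ι α
  have hιeq : ∀ d, V.ι (iV d) = D.i (DV.ι d) := fun d =>
    congr($(morphismRestrict_ι D.i V) d)
  have hαV : αV ∈ Cyc.Zk DV (fun d => δV (iV d)) k := fun d hd => hα (DV.ι d) (by
    show δE (D.i (DV.ι d)) ≠ k
    rw [← hιeq]
    exact hd)
  refine ⟨AlgebraicCycle.map iV (fun d => δV (iV d)) δV αV, fun a => ?_,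
    piece hV hW p hδp (affFibres_of_charts hpE hrE) iV (affFibres_of_charts hpF hrF) (V.ι.app ⊤ D.z) hz αV hαV⟩
  by_cases ha : a ∈ Set.range iV
  · obtain ⟨d, rfl⟩ := ha
    rw [CycSeqLib.map_closed_apply iV αV d, hιeq, CycSeqLib.map_closed_apply D.i α]
    rfl
  · rw [CycSeqLib.map_closed_apply_zero iV αV ha, CycSeqLib.map_closed_apply_zero D.i α]
    rintro ⟨d, hd⟩
    exact ha ⟨⟨d, show D.i d ∈ V by rw [hd]; exact a.2⟩, V.ι.isOpenEmbedding.injective ((hιeq _).trans hd)⟩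

end Datum

end CycSubLib

end
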